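import Cfsg.Agent.Forms.TwoTransp
import Cfsg.Agent.Forms.Standard

/-!
Data for a Sylow 2-subgroup of the elliptic orthogonal group in dimension six over two elements.
-/

set_option autoImplicit false

namespace CfsgLib.O6Sylow

open QuadraticMap Matrix CfsgLib.Forms CfsgLib.Forms.TwoTransp

/-- The six dimensional elliptic space. -/
abbrev W6 := (Fin 2 ⊕ Fin 2) ⊕ Fin 2 → ZMod 2

/-- The form. -/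
abbrev Q6 : QuadraticForm (ZMod 2) W6 := quadMinus (ZMod 2) 2 1 1

/-- Its group. -/
abbrev O6 : Subgroup (GL ((Fin 2 ⊕ Fin 2) ⊕ Fin 2) (ZMod 2)) := Cfsg.isometryGroup (ZMod 2) ⇑Q6

/-- polar form -/
def pol (v w : W6) : ZMod 2 :=
  Cfsg.quadFormMinus 2 (ZMod 2) 1 1 (v + w) - Cfsg.quadFormMinus 2 (ZMod 2) 1 1 v - Cfsg.quadFormMinus 2 (ZMod 2) 1 1 w

theorem pol_eq (v w : W6) : polar Q6 v w = pol v w := by rw [CfsgLib.Forms.coe_quadMinus]; rfl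

/-- A transvection as a map. -/
def tfun (u x : W6) : W6 := x + pol x u • u

/-- The first ends of the eight pairs. -/
def pA : Fin 8 → W6 := ![
  Sum.elim (Sum.elim ![1, 0] ![1, 0]) ![0, 0],
  Sum.elim (Sum.elim ![1, 0] ![1, 0]) ![0, 0],
  Sum.elim (Sum.elim ![1, 1] ![0, 1]) ![0, 0],
  Sum.elim (Sum.elim ![1, 1] ![0, 1]) ![0, 0],
  Sum.elim (Sum.elim ![0, 0] ![1, 0]) ![1, 0],
  Sum.elim (Sum.elim ![1, 0] ![0, 1]) ![1, 0],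
  Sum.elim (Sum.elim ![0, 0] ![1, 0]) ![0, 1],
  Sum.elim (Sum.elim ![1, 0] ![0, 1]) ![0, 1]]

/-- The second ends of the eight pairs. -/
def pB : Fin 8 → W6 := ![
  Sum.elim (Sum.elim ![0, 0] ![1, 0]) ![1, 0],
  Sum.elim (Sum.elim ![1, 0] ![0, 1]) ![0, 1],
  Sum.elim (Sum.elim ![1, 0] ![0, 1]) ![1, 0],
  Sum.elim (Sum.elim ![0, 0] ![1, 0]) ![0, 1],
  Sum.elim (Sum.elim ![0, 0] ![0, 1]) ![1, 1],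
  Sum.elim (Sum.elim ![0, 1] ![1, 0]) ![1, 1],
  Sum.elim (Sum.elim ![0, 1] ![1, 0]) ![1, 1],
  Sum.elim (Sum.elim ![0, 0] ![0, 1]) ![1, 1]]

/-- A map carries pair `i` onto pair `j`. -/
def Sends (f : W6 → W6) (i j : Fin 8) : Prop :=
  (f (pA i) = pA j ∧ f (pB i) = pB j) ∨ (f (pA i) = pB j ∧ f (pB i) = pA j)

theorem pairs_inj : ∀ i j, (pA i = pA j ∧ pB i = pB j) ∨ (pA i = pB j ∧ pB i = pA j) → i = j := by decide +kernel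

theorem vertex : ∀ i, (∃ k, k ≠ i ∧ (pA k = pA i ∨ pB k = pA i)) ∧ (∃ k, k ≠ i ∧ (pA k = pB i ∨ pB k = pB i)) := by
  decide +kernel

theorem ne_pair : ∀ i, pA i ≠ pB i := by decide +kernel

/-- A vector outside the hyperplane spanned by the ends. -/
def w61 : W6 := Sum.elim (Sum.elim ![1, 0] ![1, 1]) ![1, 1]

theorem rigid : ∀ x y : W6, pol x w61 = 1 → Cfsg.quadFormMinus 2 (ZMod 2) 1 1 y = Cfsg.quadFormMinus 2 (ZMod 2) 1 1 x →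
    (∀ i, pol y (pA i) = pol x (pA i) ∧ pol y (pB i) = pol x (pB i)) → y = x := by decide +kernel

theorem split : ∀ x : W6, pol x w61 = 1 ∨ ∃ x0 : W6, pol x0 w61 = 1 ∧ pol (x + x0) w61 = 1 := by decide +kernel

/-- The transvection words of the generators. -/
def wd : Fin 7 → W6 × Option W6 := ![
  (Sum.elim (Sum.elim ![0, 1] ![0, 0]) ![1, 0], some (Sum.elim (Sum.elim ![1, 0] ![0, 0]) ![1, 0])),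
  (Sum.elim (Sum.elim ![0, 1] ![0, 0]) ![0, 1], some (Sum.elim (Sum.elim ![1, 0] ![0, 0]) ![0, 1])),
  (Sum.elim (Sum.elim ![0, 1] ![1, 1]) ![0, 0], some (Sum.elim (Sum.elim ![1, 0] ![1, 1]) ![0, 0])),
  (Sum.elim (Sum.elim ![0, 0] ![0, 0]) ![1, 1], some (Sum.elim (Sum.elim ![1, 0] ![1, 1]) ![0, 0])),
  (Sum.elim (Sum.elim ![0, 1] ![0, 0]) ![0, 1], some (Sum.elim (Sum.elim ![0, 0] ![1, 1]) ![1, 0])),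
  (Sum.elim (Sum.elim ![0, 0] ![0, 1]) ![1, 1], some (Sum.elim (Sum.elim ![1, 0] ![1, 0]) ![0, 0])),
  (Sum.elim (Sum.elim ![0, 1] ![0, 0]) ![1, 0], none)]

/-- The generators on the pairs. -/
def gp : Fin 7 → (Fin 8 → Fin 8) := ![![0, 4, 2, 5, 1, 3, 6, 7], ![6, 3, 7, 1, 5, 4, 0, 2], ![2, 3, 0, 1, 5, 4, 7, 6], ![1, 0, 3, 2, 7, 6, 5, 4], ![5, 2, 1, 7, 6, 0, 4, 3], ![1, 0, 6, 5, 7, 3, 2, 4], ![0, 1, 2, 5, 4, 3, 6, 7]]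

/-- The group of order 128 on the pairs. -/
def L : Fin 128 → (Fin 8 → Fin 8) := ![
  ![0, 1, 2, 3, 4, 5, 6, 7],
  ![0, 4, 2, 5, 1, 3, 6, 7],
  ![6, 3, 7, 1, 5, 4, 0, 2],
  ![6, 5, 7, 4, 3, 1, 0, 2],
  ![2, 3, 0, 1, 5, 4, 7, 6],
  ![2, 5, 0, 4, 3, 1, 7, 6],
  ![7, 1, 6, 3, 4, 5, 2, 0],
  ![7, 4, 6, 5, 1, 3, 2, 0],
  ![1, 0, 3, 2, 7, 6, 5, 4],
  ![1, 7, 3, 6, 0, 2, 5, 4],
  ![5, 2, 4, 0, 6, 7, 1, 3],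
  ![5, 6, 4, 7, 2, 0, 1, 3],
  ![3, 2, 1, 0, 6, 7, 4, 5],
  ![3, 6, 1, 7, 2, 0, 4, 5],
  ![4, 0, 5, 2, 7, 6, 3, 1],
  ![4, 7, 5, 6, 0, 2, 3, 1],
  ![5, 2, 1, 7, 6, 0, 4, 3],
  ![5, 6, 1, 0, 2, 7, 4, 3],
  ![4, 7, 3, 2, 0, 6, 5, 1],
  ![4, 0, 3, 6, 7, 2, 5, 1],
  ![1, 7, 5, 2, 0, 6, 3, 4],
  ![1, 0, 5, 6, 7, 2, 3, 4],
  ![3, 2, 4, 7, 6, 0, 1, 5],
  ![3, 6, 4, 0, 2, 7, 1, 5],
  ![2, 5, 7, 1, 3, 4, 0, 6],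
  ![2, 3, 7, 4, 5, 1, 0, 6],
  ![0, 1, 6, 5, 4, 3, 2, 7],
  ![0, 4, 6, 3, 1, 5, 2, 7],
  ![7, 1, 2, 5, 4, 3, 6, 0],
  ![7, 4, 2, 3, 1, 5, 6, 0],
  ![6, 5, 0, 1, 3, 4, 7, 2],
  ![6, 3, 0, 4, 5, 1, 7, 2],
  ![1, 0, 6, 5, 7, 3, 2, 4],
  ![1, 7, 6, 3, 0, 5, 2, 4],
  ![2, 5, 4, 0, 3, 7, 1, 6],
  ![2, 3, 4, 7, 5, 0, 1, 6],
  ![6, 5, 1, 0, 3, 7, 4, 2],
  ![6, 3, 1, 7, 5, 0, 4, 2],
  ![4, 0, 2, 5, 7, 3, 6, 1],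
  ![4, 7, 2, 3, 0, 5, 6, 1],
  ![0, 1, 5, 6, 4, 2, 3, 7],
  ![0, 4, 5, 2, 1, 6, 3, 7],
  ![3, 6, 7, 1, 2, 4, 0, 5],
  ![3, 2, 7, 4, 6, 1, 0, 5],
  ![5, 6, 0, 1, 2, 4, 7, 3],
  ![5, 2, 0, 4, 6, 1, 7, 3],
  ![7, 1, 3, 6, 4, 2, 5, 0],
  ![7, 4, 3, 2, 1, 6, 5, 0],
  ![3, 6, 0, 4, 2, 1, 7, 5],
  ![3, 2, 0, 1, 6, 4, 7, 5],
  ![7, 4, 5, 6, 1, 2, 3, 0],
  ![7, 1, 5, 2, 4, 6, 3, 0],
  ![0, 4, 3, 6, 1, 2, 5, 7],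
  ![0, 1, 3, 2, 4, 6, 5, 7],
  ![5, 6, 7, 4, 2, 1, 0, 3],
  ![5, 2, 7, 1, 6, 4, 0, 3],
  ![6, 3, 4, 0, 5, 7, 1, 2],
  ![6, 5, 4, 7, 3, 0, 1, 2],
  ![1, 0, 2, 3, 7, 5, 6, 4],
  ![1, 7, 2, 5, 0, 3, 6, 4],
  ![4, 0, 6, 3, 7, 5, 2, 1],
  ![4, 7, 6, 5, 0, 3, 2, 1],
  ![2, 3, 1, 0, 5, 7, 4, 6],
  ![2, 5, 1, 7, 3, 0, 4, 6],
  ![0, 1, 2, 5, 4, 3, 6, 7],
  ![0, 4, 2, 3, 1, 5, 6, 7],
  ![6, 5, 7, 1, 3, 4, 0, 2],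
  ![6, 3, 7, 4, 5, 1, 0, 2],
  ![2, 5, 0, 1, 3, 4, 7, 6],
  ![2, 3, 0, 4, 5, 1, 7, 6],
  ![7, 1, 6, 5, 4, 3, 2, 0],
  ![7, 4, 6, 3, 1, 5, 2, 0],
  ![1, 0, 5, 2, 7, 6, 3, 4],
  ![1, 7, 5, 6, 0, 2, 3, 4],
  ![3, 2, 4, 0, 6, 7, 1, 5],
  ![3, 6, 4, 7, 2, 0, 1, 5],
  ![5, 2, 1, 0, 6, 7, 4, 3],
  ![5, 6, 1, 7, 2, 0, 4, 3],
  ![4, 0, 3, 2, 7, 6, 5, 1],
  ![4, 7, 3, 6, 0, 2, 5, 1],
  ![3, 2, 1, 7, 6, 0, 4, 5],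
  ![3, 6, 1, 0, 2, 7, 4, 5],
  ![4, 7, 5, 2, 0, 6, 3, 1],
  ![4, 0, 5, 6, 7, 2, 3, 1],
  ![1, 7, 3, 2, 0, 6, 5, 4],
  ![1, 0, 3, 6, 7, 2, 5, 4],
  ![5, 2, 4, 7, 6, 0, 1, 3],
  ![5, 6, 4, 0, 2, 7, 1, 3],
  ![2, 3, 7, 1, 5, 4, 0, 6],
  ![2, 5, 7, 4, 3, 1, 0, 6],
  ![0, 1, 6, 3, 4, 5, 2, 7],
  ![0, 4, 6, 5, 1, 3, 2, 7],
  ![7, 1, 2, 3, 4, 5, 6, 0],
  ![7, 4, 2, 5, 1, 3, 6, 0],
  ![6, 3, 0, 1, 5, 4, 7, 2],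
  ![6, 5, 0, 4, 3, 1, 7, 2],
  ![1, 0, 6, 3, 7, 5, 2, 4],
  ![1, 7, 6, 5, 0, 3, 2, 4],
  ![2, 3, 4, 0, 5, 7, 1, 6],
  ![2, 5, 4, 7, 3, 0, 1, 6],
  ![6, 3, 1, 0, 5, 7, 4, 2],
  ![6, 5, 1, 7, 3, 0, 4, 2],
  ![4, 0, 2, 3, 7, 5, 6, 1],
  ![4, 7, 2, 5, 0, 3, 6, 1],
  ![0, 1, 3, 6, 4, 2, 5, 7],
  ![0, 4, 3, 2, 1, 6, 5, 7],
  ![5, 6, 7, 1, 2, 4, 0, 3],
  ![5, 2, 7, 4, 6, 1, 0, 3],
  ![3, 6, 0, 1, 2, 4, 7, 5],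
  ![3, 2, 0, 4, 6, 1, 7, 5],
  ![7, 1, 5, 6, 4, 2, 3, 0],
  ![7, 4, 5, 2, 1, 6, 3, 0],
  ![5, 6, 0, 4, 2, 1, 7, 3],
  ![5, 2, 0, 1, 6, 4, 7, 3],
  ![7, 4, 3, 6, 1, 2, 5, 0],
  ![7, 1, 3, 2, 4, 6, 5, 0],
  ![0, 4, 5, 6, 1, 2, 3, 7],
  ![0, 1, 5, 2, 4, 6, 3, 7],
  ![3, 6, 7, 4, 2, 1, 0, 5],
  ![3, 2, 7, 1, 6, 4, 0, 5],
  ![6, 5, 4, 0, 3, 7, 1, 2],
  ![6, 3, 4, 7, 5, 0, 1, 2],
  ![1, 0, 2, 5, 7, 3, 6, 4],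
  ![1, 7, 2, 3, 0, 5, 6, 4],
  ![4, 0, 6, 5, 7, 3, 2, 1],
  ![4, 7, 6, 3, 0, 5, 2, 1],
  ![2, 5, 1, 0, 3, 7, 4, 6],
  ![2, 3, 1, 7, 5, 0, 4, 6]]

/-- Left multiplication by the generators. -/
def mu : Fin 7 → (Fin 128 → Fin 128) := ![
  ![1, 0, 3, 2, 5, 4, 7, 6, 14, 15, 12, 13, 10, 11, 8, 9, 22, 23, 20, 21, 18, 19, 16, 17, 25, 24, 27, 26, 29, 28, 31, 30, 60, 61, 62, 63, 56, 57, 58, 59, 52, 53, 54, 55, 48, 49, 50, 51, 44, 45, 46, 47, 40, 41, 42, 43, 36, 37, 38, 39, 32, 33, 34, 35, 65, 64, 67, 66, 69, 68, 71, 70, 78, 79, 76, 77, 74, 75, 72, 73, 86, 87, 84, 85, 82, 83, 80, 81, 89, 88, 91, 90, 93, 92, 95, 94, 124, 125, 126, 127, 120, 121, 122, 123, 116, 117, 118, 119, 112, 113, 114, 115, 108, 109, 110, 111, 104, 105, 106, 107, 100, 101, 102, 103, 96, 97, 98, 99],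
  ![2, 3, 0, 1, 6, 7, 4, 5, 13, 12, 15, 14, 9, 8, 11, 10, 18, 19, 16, 17, 22, 23, 20, 21, 29, 28, 31, 30, 25, 24, 27, 26, 48, 49, 50, 51, 52, 53, 54, 55, 56, 57, 58, 59, 60, 61, 62, 63, 32, 33, 34, 35, 36, 37, 38, 39, 40, 41, 42, 43, 44, 45, 46, 47, 67, 66, 65, 64, 71, 70, 69, 68, 75, 74, 73, 72, 79, 78, 77, 76, 84, 85, 86, 87, 80, 81, 82, 83, 92, 93, 94, 95, 88, 89, 90, 91, 108, 109, 110, 111, 104, 105, 106, 107, 100, 101, 102, 103, 96, 97, 98, 99, 124, 125, 126, 127, 120, 121, 122, 123, 116, 117, 118, 119, 112, 113, 114, 115],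
  ![4, 5, 6, 7, 0, 1, 2, 3, 12, 13, 14, 15, 8, 9, 10, 11, 19, 18, 17, 16, 23, 22, 21, 20, 27, 26, 25, 24, 31, 30, 29, 28, 43, 42, 41, 40, 47, 46, 45, 44, 35, 34, 33, 32, 39, 38, 37, 36, 59, 58, 57, 56, 63, 62, 61, 60, 51, 50, 49, 48, 55, 54, 53, 52, 69, 68, 71, 70, 65, 64, 67, 66, 74, 75, 72, 73, 78, 79, 76, 77, 85, 84, 87, 86, 81, 80, 83, 82, 90, 91, 88, 89, 94, 95, 92, 93, 119, 118, 117, 116, 115, 114, 113, 112, 127, 126, 125, 124, 123, 122, 121, 120, 103, 102, 101, 100, 99, 98, 97, 96, 111, 110, 109, 108, 107, 106, 105, 104],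
  ![8, 9, 10, 11, 12, 13, 14, 15, 0, 1, 2, 3, 4, 5, 6, 7, 31, 30, 29, 28, 27, 26, 25, 24, 23, 22, 21, 20, 19, 18, 17, 16, 40, 41, 42, 43, 44, 45, 46, 47, 32, 33, 34, 35, 36, 37, 38, 39, 63, 62, 61, 60, 59, 58, 57, 56, 55, 54, 53, 52, 51, 50, 49, 48, 85, 84, 87, 86, 81, 80, 83, 82, 90, 91, 88, 89, 94, 95, 92, 93, 69, 68, 71, 70, 65, 64, 67, 66, 74, 75, 72, 73, 78, 79, 76, 77, 117, 116, 119, 118, 113, 112, 115, 114, 122, 123, 120, 121, 126, 127, 124, 125, 101, 100, 103, 102, 97, 96, 99, 98, 106, 107, 104, 105, 110, 111, 108, 109],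
  ![16, 17, 18, 19, 20, 21, 22, 23, 24, 25, 26, 27, 28, 29, 30, 31, 0, 1, 2, 3, 4, 5, 6, 7, 8, 9, 10, 11, 12, 13, 14, 15, 34, 35, 32, 33, 38, 39, 36, 37, 45, 44, 47, 46, 41, 40, 43, 42, 50, 51, 48, 49, 54, 55, 52, 53, 61, 60, 63, 62, 57, 56, 59, 58, 76, 77, 78, 79, 72, 73, 74, 75, 68, 69, 70, 71, 64, 65, 66, 67, 92, 93, 94, 95, 88, 89, 90, 91, 84, 85, 86, 87, 80, 81, 82, 83, 99, 98, 97, 96, 103, 102, 101, 100, 107, 106, 105, 104, 111, 110, 109, 108, 116, 117, 118, 119, 112, 113, 114, 115, 124, 125, 126, 127, 120, 121, 122, 123],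
  ![32, 33, 34, 35, 36, 37, 38, 39, 40, 41, 42, 43, 44, 45, 46, 47, 48, 49, 50, 51, 52, 53, 54, 55, 56, 57, 58, 59, 60, 61, 62, 63, 0, 1, 2, 3, 4, 5, 6, 7, 8, 9, 10, 11, 12, 13, 14, 15, 16, 17, 18, 19, 20, 21, 22, 23, 24, 25, 26, 27, 28, 29, 30, 31, 96, 97, 98, 99, 100, 101, 102, 103, 104, 105, 106, 107, 108, 109, 110, 111, 112, 113, 114, 115, 116, 117, 118, 119, 120, 121, 122, 123, 124, 125, 126, 127, 64, 65, 66, 67, 68, 69, 70, 71, 72, 73, 74, 75, 76, 77, 78, 79, 80, 81, 82, 83, 84, 85, 86, 87, 88, 89, 90, 91, 92, 93, 94, 95],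
  ![64, 65, 66, 67, 68, 69, 70, 71, 72, 73, 74, 75, 76, 77, 78, 79, 80, 81, 82, 83, 84, 85, 86, 87, 88, 89, 90, 91, 92, 93, 94, 95, 96, 97, 98, 99, 100, 101, 102, 103, 104, 105, 106, 107, 108, 109, 110, 111, 112, 113, 114, 115, 116, 117, 118, 119, 120, 121, 122, 123, 124, 125, 126, 127, 0, 1, 2, 3, 4, 5, 6, 7, 8, 9, 10, 11, 12, 13, 14, 15, 16, 17, 18, 19, 20, 21, 22, 23, 24, 25, 26, 27, 28, 29, 30, 31, 32, 33, 34, 35, 36, 37, 38, 39, 40, 41, 42, 43, 44, 45, 46, 47, 48, 49, 50, 51, 52, 53, 54, 55, 56, 57, 58, 59, 60, 61, 62, 63]]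

/-- A generator as a map. -/
def gfun (k : Fin 7) (x : W6) : W6 :=
  match (wd k).2 with
  | none => tfun (wd k).1 x
  | some v => tfun (wd k).1 (tfun v x)

theorem gen_sends : ∀ k i, Sends (gfun k) i (gp k i) := by unfold Sends; decide +kernel

theorem gen_invol : ∀ k i, gp k (gp k i) = i := by decide +kernel

theorem gen_one : ∀ k, Cfsg.quadFormMinus 2 (ZMod 2) 1 1 (wd k).1 = 1 ∧
    ∀ v, (wd k).2 = some v → Cfsg.quadFormMinus 2 (ZMod 2) 1 1 v = 1 := by decide +kernel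

theorem gen_parity : ∀ k : Fin 7, k.val < 6 → (wd k).2.isSome = true := by decide +kernel

theorem L_zero : ∀ i, L 0 i = i := by decide +kernel

theorem L_mu : ∀ k m i, gp k (L m i) = L (mu k m) i := by decide +kernel

/-- The code of a self map of eight points. -/
def code8 (f : Fin 8 → Fin 8) : ℕ :=
  (f 0).val + 8 * ((f 1).val + 8 * ((f 2).val + 8 * ((f 3).val + 8 * ((f 4).val + 8 * ((f 5).val + 8 * ((f 6).val + 8 * (f 7).val))))))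

theorem L_inj' : ∀ a b, code8 (L a) = code8 (L b) → a = b := by decide +kernel

theorem L_inj : Function.Injective L := fun a b h => L_inj' a b (congrArg code8 h)

theorem L_reach : ∀ m : Fin 128, m ≠ 0 → ∃ k : Fin 7, ∃ m' : Fin 128, m' < m ∧ mu k m' = m ∧
    (m.val < 64 → k.val < 6) := by decide +kernel

theorem L_small : ∀ k : Fin 7, k.val < 6 → ∀ m : Fin 128, m.val < 64 → (mu k m).val < 64 := by decide +kernel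

theorem gfun_invol : ∀ k x, gfun k (gfun k x) = x := by decide +kernel


end CfsgLib.O6Sylow
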